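import Cfsg.Agent.R2.Spec.X7.Odd
import Cfsg.Agent.R2.Spec.X7.U7.Nc

/-!
# `PSU_7(q)`, `q` odd: no composition factors of Lie type in other characteristics (helper27)
-/

set_option autoImplicit false

namespace Cfsg.Agent.R2.Spec.X7

open Finset Function Cfsg Subgroup Cfsg.Agent.H420.QR Cfsg.Agent.H360.Iso
open Cfsg.Agent.H426.LieFam Cfsg.Agent.R2.Spec Cfsg.Agent.R2.Spec.F1

universe u w

/-- **`PSU_7(q)`.** -/
theorem noCross_psu7 {p f : ℕ} (hp : p.Prime) (hp2 : p ≠ 2) {L : Type w} [Group L] [Finite L]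
    (hL : Fam.Is p f L (.psu 7)) : NoCross.{u, w} p L := by
  have hfp := Fact.mk hp
  have hcoq : Coq3 L := coq3_of_classes (t := .psu 7) trivial hp hL hp2 (i := 5) (j := 6) (k := 7) (by norm_num)
    (by norm_num) (by norm_num) (show 5 ≤ 7 by norm_num) (show 6 ≤ 7 by norm_num) (show 7 ≤ 7 by norm_num)
    ⟨by norm_num, by norm_num, by norm_num⟩ ⟨by norm_num, by norm_num, by norm_num⟩
    ⟨by norm_num, by norm_num, by norm_num⟩ (by norm_num) (by norm_num)
  obtain ⟨-, -, F, _, _, _, hF, ⟨e0⟩⟩ := hL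
  have e : L ≃* PSU 7 F (p ^ f) := e0
  clear e0
  have hnp : Nat.Prime 7 := by norm_num
  have hf : f ≠ 0 := by
    rintro rfl
    have := Fintype.one_lt_card (α := F)
    rw [hF] at this
    simp at this
  generalize hq : p ^ f = q at hF e
  replace hq := hq.symm
  have hq3 : 3 ≤ q := by
    have h1 := Nat.le_self_pow hf p
    have h2 := hp.two_le
    omega
  have ht := (par_minus hq3).ht
  obtain ⟨R, hR⟩ := gcd_mul_dvd_ua (s := -(q : ℤ)) (n := 7) ht
  rw [mul_comm] at hR
  have hua : ua (-(q : ℤ)) 7 = q ^ 7 + 1 := ua_minus_odd (by decide)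
  have hR0 : 0 < R := by
    rcases Nat.eq_zero_or_pos R with h | h
    · exfalso
      rw [h, zero_mul] at hR
      omega
    · exact h
  have hP : UNum p q (Nat.gcd 7 (q + 1)) (Nat.gcd 7 (q + 1) * (q + 1)) R :=
    ⟨hp, hp2, ⟨f, by omega, hq⟩, rfl, rfl, by rw [← hR, hua]⟩
  have hwp := hP.w_pos
  have hbig := hP.big
  have hprime : ∀ r : ℕ, r.Prime → r ∣ R → 7 < r ∧ r ≠ p ∧ orderOf (-(q : ZMod r)) = 7 := by
    intro r hr hrR
    have h0 := lt_of_dvd_iso hnp (by norm_num) ht (by omega) hR.symm hR0 hr hrR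
    refine ⟨h0.1, ?_, ?_⟩
    · rintro rfl
      have h1 : r ∣ q ^ 7 + 1 := by
        rw [← hua, hR]
        exact hrR.mul_right _
      have h2 : r ∣ q ^ 7 := (dvd_pow_self r hf).trans (by rw [← hq]; exact dvd_pow_self q (by omega))
      have h4 := (Nat.dvd_add_right h2).1 h1
      exact hr.one_lt.ne' (Nat.dvd_one.1 h4)
    · have h1 := h0.2
      push_cast at h1
      exact h1
  have hRe : R = (Cfsg.Agent.H364.Unitary.sg q 7).natAbs / Nat.gcd 7 (q + 1) := by
    have h1 := Cfsg.Agent.H437.Win.sg_natAbs (q := q) (n := 7) (by decide)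
    have h2 : R * Nat.gcd 7 (q + 1) = (Cfsg.Agent.H364.Unitary.sg q 7).natAbs := by
      apply Nat.eq_of_mul_eq_mul_right (show 0 < q + 1 by omega)
      rw [h1, ← hua, hR]
      ring
    rw [← h2, Nat.mul_div_cancel _ hP.c_pos]
  have iso : ∀ (x : PSU 7 F q) (r : ℕ), r.Prime → r ∣ R → r ∣ orderOf x → orderOf x ∣ R := by
    intro x r hr hrR hrx
    obtain ⟨-, hrp, hra⟩ := hprime r hr hrR
    rw [hRe]
    refine Cfsg.Agent.H364.Unitary.psu_orderOf_dvd hF hr ?_ (by omega) (by omega) hra hrx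
    intro h0
    have h1 := (CharP.cast_eq_zero_iff F p r).1 h0
    exact hrp ((Nat.prime_dvd_prime_iff_eq hp hr).1 h1).symm
  have elt : ∃ x : PSU 7 F q, orderOf x = R := by
    obtain ⟨x, hx⟩ := Cfsg.Agent.H364.UTorus.exists_psu_orderOf hF (n := 7) (by decide) (by omega)
    have h1 : (q ^ 7 + 1) / (q + 1) = R * Nat.gcd 7 (q + 1) := by
      rw [← hua, hR]
      rw [show R * (Nat.gcd 7 (q + 1) * (q + 1)) = R * Nat.gcd 7 (q + 1) * (q + 1) by ring]
      exact Nat.mul_div_cancel _ (by omega)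
    rw [h1] at hx
    have h2 : R ∣ orderOf x := Nat.dvd_of_mul_dvd_mul_right hP.c_pos hx
    obtain ⟨r, hr, hrR⟩ := Nat.exists_prime_and_dvd (n := R) (by omega)
    exact ⟨x, Nat.dvd_antisymm (iso x r hr hrR (hrR.trans h2)) h2⟩
  have hcard := Cfsg.Agent.S0280.result (F := F) (q := q) hF 7 (by norm_num)
  have hce : Nat.card L = Nat.card (PSU 7 F q) := Nat.card_congr e.toEquiv
  rw [← hce] at hcard
  have hnd : ∀ r : ℕ, r.Prime → q = 3 → (r = 41 ∨ r = 137) → ¬ r ∣ Nat.card L := by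
    intro r hr h3 hqr hd
    have h1 : r ∣ q ^ (7 * (7 - 1) / 2) * ∏ i ∈ Finset.range 7, (if Even i then q ^ (i + 1) + 1 else q ^ (i + 1) - 1) := by
      rw [← hcard]
      exact (hd.mul_left _).mul_left _
    have e0 : Even 0 := by decide
    have e1 : ¬ Even 1 := by decide
    have e2 : Even 2 := by decide
    have e3 : ¬ Even 3 := by decide
    have e4 : Even 4 := by decide
    have e5 : ¬ Even 5 := by decide
    have e6 : Even 6 := by decide
    rw [Finset.prod_range_succ, Finset.prod_range_succ, Finset.prod_range_succ, Finset.prod_range_succ,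
      Finset.prod_range_succ, Finset.prod_range_succ, Finset.prod_range_succ, Finset.prod_range_zero, if_pos e0,
      if_neg e1, if_pos e2, if_neg e3, if_pos e4, if_neg e5, if_pos e6] at h1
    rcases hqr with h4 | h4
    · rw [h3, h4] at h1; norm_num at h1
    · rw [h3, h4] at h1; norm_num at h1
  refine NoCross.congr (noCross_of (L := L) hP.nc ?_ ?_ ?_ (fun r hr hrR => (hprime r hr hrR).1) hcoq ?_ ?_ ?_ ?_ ?_)
    (MulEquiv.refl L)
  · intro y
    have h1 : orderOf (e y) = orderOf y := orderOf_injective e.toMonoidHom e.injective y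
    rw [← h1]
    exact window_psu hq hq3 hp2 hnp (by omega) (e y)
  · intro x r hr hrR hrx
    have h1 : orderOf (e x) = orderOf x := orderOf_injective e.toMonoidHom e.injective x
    rw [← h1] at hrx ⊢
    exact iso (e x) r hr hrR hrx
  · obtain ⟨x, hx⟩ := elt
    exact ⟨e.symm x, by rw [← hx]; exact orderOf_injective e.symm.toMonoidHom e.symm.injective x⟩
  · intro h1; omega
  · intro h1; omega
  · intro h1; omega
  · intro h1
    exact hnd 41 (by norm_num) (by omega) (Or.inl rfl)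
  · intro h1
    exact hnd 137 (by norm_num) (by omega) (Or.inr rfl)

end Cfsg.Agent.R2.Spec.X7
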